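import Mathlib
import Groth.Prelude.Def_W4c1hilbchowincPtFun
import Groth.Agent.DvrDom.Basic

/-!
# Pointwise functions on affine schemes
-/

set_option autoImplicit false
set_option backward.isDefEq.respectTransparency false

universe u

open CategoryTheory AlgebraicGeometry W4c1hilbchowinc

namespace Groth.Agent.PtFunLib

variable {A : Type u} [CommRing A]

/-- Evaluation of an element of the ring at a point. -/
noncomputable def ev (x : Spec (CommRingCat.of A)) : A →+* (Spec (CommRingCat.of A)).residueField x :=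
  ((Spec (CommRingCat.of A)).Γevaluation x).hom.comp (Scheme.ΓSpecIso (CommRingCat.of A)).inv.hom

theorem ev_eq_zero_iff (x : Spec (CommRingCat.of A)) (a : A) : ev x a = 0 ↔ a ∈ x.asIdeal := by
  have := (Spec (CommRingCat.of A)).evaluation_eq_zero_iff_notMem_basicOpen (U := ⊤) x trivial
    ((Scheme.ΓSpecIso (CommRingCat.of A)).inv a)
  rw [show ev x a = (Spec (CommRingCat.of A)).evaluation ⊤ x trivial
    ((Scheme.ΓSpecIso (CommRingCat.of A)).inv a) from rfl, this, basicOpen_eq_of_affine]
  exact not_not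

theorem ev_frac (x : Spec (CommRingCat.of A)) (z : (Spec (CommRingCat.of A)).residueField x) :
    ∃ c e : A, ev x e ≠ 0 ∧ ev x c = ev x e * z := by
  obtain ⟨z, rfl⟩ := IsLocalRing.residue_surjective (R := (Spec (CommRingCat.of A)).presheaf.stalk x) z
  let σ : A →+* (Spec (CommRingCat.of A)).presheaf.stalk x :=
    ((Scheme.ΓSpecIso (CommRingCat.of A)).inv ≫ (Spec (CommRingCat.of A)).presheaf.germ ⊤ x trivial).hom
  letI : Algebra A ((Spec (CommRingCat.of A)).presheaf.stalk x) := σ.toAlgebra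
  haveI : IsLocalization.AtPrime ((Spec (CommRingCat.of A)).presheaf.stalk x) x.asIdeal :=
    StructureSheaf.IsLocalization.to_stalk A x
  obtain ⟨c, e, hce⟩ := IsLocalization.exists_mk'_eq x.asIdeal.primeCompl z
  refine ⟨c, e, fun h => e.2 ((ev_eq_zero_iff x _).mp h), ?_⟩
  show IsLocalRing.residue _ (algebraMap A _ c) = IsLocalRing.residue _ (algebraMap A _ e) * IsLocalRing.residue _ z
  rw [← map_mul, ← hce, IsLocalization.mk'_spec']

theorem ev_naturality {R : Type u} [CommRing R] (φ : A →+* R) (y : Spec (CommRingCat.of R)) (a : A) :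
    (Spec.map (CommRingCat.ofHom φ)).residueFieldMap y (ev _ a) = ev y (φ a) := by
  show (Spec.map (CommRingCat.ofHom φ)).residueFieldMap y ((Spec (CommRingCat.of A)).Γevaluation _ _) = _
  rw [Scheme.Γevaluation_naturality_apply]
  refine congrArg ((Spec (CommRingCat.of R)).Γevaluation y) ?_
  exact (congrArg (fun k => k.hom a) (Scheme.ΓSpecIso_inv_naturality (CommRingCat.ofHom φ))).symm

theorem ofSection_ΓSpecIso (a : A) (x : Spec (CommRingCat.of A)) :
    PtFun.ofSection (Spec (CommRingCat.of A)) ((Scheme.ΓSpecIso (CommRingCat.of A)).inv a) x = ev x a := rfl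

theorem exists_of_varies {f : PtFun (Spec (CommRingCat.of A))} (hf : f.VariesAlongDVR)
    (R : Type u) [CommRing R] [IsDomain R] [IsDiscreteValuationRing R] (φ : A →+* R) :
    ∃ r : R, ∀ (y : Spec (CommRingCat.of R)) (c e : A),
      ev _ e * f (Spec.map (CommRingCat.ofHom φ) y) = ev _ c → φ e * r - φ c ∈ y.asIdeal := by
  obtain ⟨s, hs⟩ := hf R (Spec.map (CommRingCat.ofHom φ))
  refine ⟨(Scheme.ΓSpecIso (CommRingCat.of R)).hom s, fun y c e h => ?_⟩
  have h1 : ev y ((Scheme.ΓSpecIso (CommRingCat.of R)).hom s) =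
      (Spec.map (CommRingCat.ofHom φ)).residueFieldMap y (f _) := by
    refine Eq.trans ?_ (congrFun hs y)
    show (Spec (CommRingCat.of R)).Γevaluation y _ = (Spec (CommRingCat.of R)).Γevaluation y s
    congr 1
    exact congrArg (fun k => k.hom s) (Scheme.ΓSpecIso (CommRingCat.of R)).hom_inv_id
  rw [← ev_eq_zero_iff, map_sub, map_mul, h1, ← ev_naturality, ← ev_naturality, ← map_mul, ← map_sub, h,
    sub_self, map_zero]

theorem ext_of_ev [_root_.IsReduced A] {a b : A} (h : ∀ x, ev x a = ev x b) : a = b := by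
  rw [← sub_eq_zero]
  refine IsNilpotent.eq_zero (nilpotent_iff_mem_prime.mpr fun q hq => ?_)
  exact (ev_eq_zero_iff ⟨q, hq⟩ _).mp (by rw [map_sub, h, sub_self])

theorem existsUnique_section [_root_.IsReduced A] {f : PtFun (Spec (CommRingCat.of A))}
    (h : ∃ a, ∀ x, ev x a = f x) :
    ∃! s : Γ(Spec (CommRingCat.of A), ⊤), PtFun.ofSection (Spec (CommRingCat.of A)) s = f := by
  obtain ⟨a, ha⟩ := h
  refine ⟨(Scheme.ΓSpecIso (CommRingCat.of A)).inv a, funext ha, fun s hs => ?_⟩
  obtain ⟨b, rfl⟩ : ∃ b, (Scheme.ΓSpecIso (CommRingCat.of A)).inv b = s :=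
    ⟨(Scheme.ΓSpecIso (CommRingCat.of A)).hom s,
      congrArg (fun k => k.hom s) (Scheme.ΓSpecIso (CommRingCat.of A)).hom_inv_id⟩
  rw [ext_of_ev (a := b) (b := a) fun x => ((ofSection_ΓSpecIso b x).symm.trans (congrFun hs x)).trans (ha x).symm]

/-- An element of a field not integral over a Noetherian subring is missed by a discrete valuation ring. -/
theorem isIntegral_of_forall_dvr {B L : Type u} [CommRing B] [IsDomain B] [IsNoetherianRing B] [Field L]
    [Algebra B L] [IsFractionRing B L] (z : L)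
    (h : ∀ O : ValuationSubring L, IsDiscreteValuationRing O → (∀ b, algebraMap B L b ∈ O) → z ∈ O) :
    IsIntegral B z := by
  by_contra hz
  have hz0 : z ≠ 0 := fun h0 => hz (h0 ▸ isIntegral_zero)
  let T : Subalgebra B L := Algebra.adjoin B {z⁻¹}
  haveI : IsNoetherianRing T := isNoetherianRing_of_fg ⟨{z⁻¹}, by simp [T]⟩
  let t : T := ⟨z⁻¹, Algebra.self_mem_adjoin_singleton B _⟩
  have ht : ¬ IsUnit t := by
    rintro ⟨u, hu⟩
    apply hz
    have hzT : z ∈ T := by
      have hmul : ((u⁻¹ : Tˣ) : T).1 * z⁻¹ = 1 := by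
        have := congrArg Subtype.val (Units.inv_mul u)
        rw [hu] at this
        exact this
      have : ((u⁻¹ : Tˣ) : T).1 = z := by
        rw [← mul_inv_eq_one₀ hz0]; exact hmul
      exact this ▸ ((u⁻¹ : Tˣ) : T).2
    rw [show T = (Polynomial.aeval z⁻¹).range from Algebra.adjoin_singleton_eq_range_aeval B z⁻¹] at hzT
    obtain ⟨P, hP⟩ := hzT
    refine ⟨Polynomial.X ^ (P.natDegree + 1) - P.reflect P.natDegree, ?_, ?_⟩
    · refine Polynomial.monic_X_pow_sub ((Polynomial.natDegree_le_iff_degree_le.mp ?_).trans_lt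
        (by exact_mod_cast Nat.lt_succ_self _))
      exact (Polynomial.natDegree_reflect_le).trans (max_self _).le
    · rw [Polynomial.eval₂_sub, Polynomial.eval₂_X_pow, sub_eq_zero]
      have hrec : z⁻¹⁻¹ ^ P.natDegree * Polynomial.eval₂ (algebraMap B L) z⁻¹ P =
          Polynomial.eval₂ (algebraMap B L) z (P.reflect P.natDegree) := by
        haveI : Invertible z⁻¹ := invertibleOfNonzero (inv_ne_zero hz0)
        have h2 := Polynomial.eval₂_reflect_mul_pow (algebraMap B L) z⁻¹ P.natDegree P le_rfl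
        rw [invOf_eq_inv, inv_inv] at h2
        rw [← h2, inv_inv, mul_comm, mul_assoc, ← mul_pow, inv_mul_cancel₀ hz0, one_pow, mul_one]
      rw [inv_inv] at hrec
      change Polynomial.aeval z⁻¹ P = z at hP
      rw [Polynomial.aeval_def] at hP
      rw [← hrec, hP, pow_succ]
  obtain ⟨M, hM, htM⟩ := exists_max_ideal_of_mem_nonunits (mem_nonunits_iff.mpr ht)
  haveI := hM.isPrime
  let C := Localization.subalgebra.ofField L M.primeCompl M.primeCompl_le_nonZeroDivisors
  haveI : IsLocalization.AtPrime C M := Localization.subalgebra.isLocalization_ofField L _ _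
  haveI : IsNoetherianRing C := IsLocalization.isNoetherianRing M.primeCompl C inferInstance
  haveI : IsLocalRing C := IsLocalization.AtPrime.isLocalRing C M
  have htC : algebraMap T C t ∈ IsLocalRing.maximalIdeal C :=
    (IsLocalization.AtPrime.to_map_mem_maximal_iff C M t).mpr htM
  have hC : ¬ IsField C := fun hf => by
    rw [IsLocalRing.isField_iff_maximalIdeal_eq.mp hf, Ideal.mem_bot] at htC
    exact inv_ne_zero hz0 (congrArg Subtype.val htC)
  obtain ⟨O, hO, hCO, hlt⟩ := DvrDom.exists_dvr C (L := L) hC Subtype.val_injective ∅ (by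
    refine top_le_iff.mp fun x _ => ?_
    obtain ⟨b, c, -, rfl⟩ := IsFractionRing.div_surjective (A := B) x
    refine div_mem (Subfield.subset_closure (Or.inl ?_)) (Subfield.subset_closure (Or.inl ?_))
    · exact ⟨algebraMap T C (algebraMap B T b), rfl⟩
    · exact ⟨algebraMap T C (algebraMap B T c), rfl⟩)
  have hzO := h O hO fun b => hCO (algebraMap T C (algebraMap B T b))
  have h1 : O.valuation z ≤ 1 := (O.valuation_le_one_iff z).mpr hzO
  have h2 : O.valuation z⁻¹ < 1 := hlt _ htC
  have h3 : O.valuation z * O.valuation z⁻¹ = 1 := by rw [← map_mul, mul_inv_cancel₀ hz0, map_one]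
  exact absurd h3 (ne_of_lt ((mul_le_of_le_one_left zero_le h1).trans_lt h2))

theorem exists_ev_eq [_root_.IsReduced A] [IsNoetherianRing A] [IsIntegrallyClosed A]
    {f : PtFun (Spec (CommRingCat.of A))} (hf : f.VariesAlongDVR) : ∃ a, ∀ x, ev x a = f x := by
  classical
  choose c₀ e₀ he₀ hce₀ using fun (η : Spec (CommRingCat.of A)) => ev_frac η (f η)
  let S := (minimalPrimes.finite_of_isNoetherianRing A).toFinset
  have hS : ∀ η : S, (η : Ideal A).IsPrime := fun η => by
    have := (Set.Finite.mem_toFinset _).mp η.2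
    exact this.1.1
  let pt : S → Spec (CommRingCat.of A) := fun η => ⟨η, hS η⟩
  have hu : ∀ η : S, ∃ u : A, u ∉ (η : Ideal A) ∧ ∀ η' : S, η' ≠ η → u ∈ (η' : Ideal A) := by
    intro η
    haveI := hS η
    have hnot : ¬ (Finset.univ.erase η).inf (fun η' : S => (η' : Ideal A)) ≤ (η : Ideal A) := by
      rw [Ideal.IsPrime.inf_le' (hS η)]
      rintro ⟨η', hη', hle⟩
      refine (Finset.mem_erase.mp hη').1 (Subtype.ext (le_antisymm hle ?_))
      exact ((Set.Finite.mem_toFinset _).mp η.2).2 ⟨hS η', bot_le⟩ hle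
    obtain ⟨u, hu, hun⟩ := SetLike.not_le_iff_exists.mp hnot
    exact ⟨u, hun, fun η' h => Submodule.mem_finsetInf.mp hu η' (Finset.mem_erase.mpr ⟨h, Finset.mem_univ _⟩)⟩
  choose u hu hu' using hu
  let c := ∑ η : S, u η * c₀ (pt η)
  let e := ∑ η : S, u η * e₀ (pt η)
  have key : ∀ (g : S → A) (η : S), ev (pt η) (∑ η' : S, u η' * g η') = ev (pt η) (u η * g η) := fun g η => by
    rw [map_sum]
    refine Finset.sum_eq_single η (fun η' _ hne => ?_) (fun h => absurd (Finset.mem_univ η) h)
    rw [map_mul, (ev_eq_zero_iff (pt η) (u η')).mpr (hu' η' η hne.symm), zero_mul]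
  have he : ∀ η : S, ev (pt η) e ≠ 0 := fun η => by
    rw [key, map_mul]
    exact mul_ne_zero (fun h => hu η ((ev_eq_zero_iff _ _).mp h)) (he₀ _)
  have hc : ∀ η : S, ev (pt η) c = ev (pt η) e * f (pt η) := fun η => by
    rw [key, key, map_mul, map_mul, hce₀, mul_assoc]
  have hzero : ∀ a : A, (∀ η : S, ev (pt η) a = 0) → a = 0 := fun a ha => by
    have : a ∈ (sInf (minimalPrimes A) : Ideal A) := by
      rw [Ideal.mem_sInf]
      intro q hq
      exact (ev_eq_zero_iff _ _).mp (ha ⟨q, (Set.Finite.mem_toFinset _).mpr hq⟩)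
    rw [show sInf (minimalPrimes A) = (⊥ : Ideal A).radical from Ideal.sInf_minimalPrimes,
      show (⊥ : Ideal A).radical = nilradical A from rfl, nilradical_eq_zero] at this
    exact this
  have hend : e ∈ nonZeroDivisors A := mem_nonZeroDivisors_iff_right.mpr fun a ha => hzero a fun η =>
    (mul_eq_zero.mp ((map_mul (ev (pt η)) a e).symm.trans (by rw [ha, map_zero]))).resolve_right (he η)
  let Q := FractionRing A
  let z : Q := IsLocalization.mk' Q c ⟨e, hend⟩
  have hint : ∀ η : S, ∃ P : Polynomial A, P.Monic ∧ Polynomial.eval₂ (ev (pt η)) (f (pt η)) P = 0 := by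
    intro η
    haveI := hS η
    let K := (Spec (CommRingCat.of A)).residueField (pt η)
    let ι : A ⧸ (η : Ideal A) →+* K := Ideal.Quotient.lift _ (ev (pt η)) fun a ha => (ev_eq_zero_iff _ _).mpr ha
    letI : Algebra (A ⧸ (η : Ideal A)) K := ι.toAlgebra
    have hιinj : Function.Injective ι := by
      rw [injective_iff_map_eq_zero]
      intro a ha
      obtain ⟨a, rfl⟩ := Ideal.Quotient.mk_surjective a
      exact Ideal.Quotient.eq_zero_iff_mem.mpr ((ev_eq_zero_iff _ _).mp ha)
    haveI : FaithfulSMul (A ⧸ (η : Ideal A)) K := (faithfulSMul_iff_algebraMap_injective _ _).mpr hιinj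
    haveI : IsFractionRing (A ⧸ (η : Ideal A)) K := IsFractionRing.of_field _ _ fun w => by
      obtain ⟨c, e, he, hce⟩ := ev_frac (pt η) w
      refine ⟨Ideal.Quotient.mk _ c, Ideal.Quotient.mk _ e, ?_⟩
      show w = ev (pt η) c / ev (pt η) e
      rw [hce, mul_div_cancel_left₀ _ he]
    obtain ⟨P, hP, hP0⟩ := isIntegral_of_forall_dvr (B := A ⧸ (η : Ideal A)) (f (pt η)) fun O hO hBO => by
      let φ : A →+* O := (ev (pt η)).codRestrict O.toSubring fun a => hBO (Ideal.Quotient.mk _ a)
      obtain ⟨r, hr⟩ := exists_of_varies hf O φ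
      let y₀ : Spec (CommRingCat.of O) := ⟨⊥, Ideal.isPrime_bot⟩
      have hy₀ : Spec.map (CommRingCat.ofHom φ) y₀ = pt η := PrimeSpectrum.ext (by
        ext a
        show φ a = 0 ↔ a ∈ (η : Ideal A)
        rw [Subtype.ext_iff]
        exact ev_eq_zero_iff (pt η) a)
      have h3 : ∀ (y : Spec (CommRingCat.of A)), y = pt η → ∀ c e : A,
          ev (pt η) e * f (pt η) = ev (pt η) c → ev y e * f y = ev y c := by
        rintro y rfl c e h; exact h
      obtain ⟨c, e, he, hce⟩ := ev_frac (pt η) (f (pt η))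
      have h4 := hr y₀ c e (h3 _ hy₀ c e hce.symm)
      rw [Ideal.mem_bot, sub_eq_zero, Subtype.ext_iff] at h4
      change ev (pt η) e * r.1 = ev (pt η) c at h4
      rw [hce] at h4
      exact mul_left_cancel₀ he h4 ▸ r.2
    obtain ⟨P', rfl, -, hP'⟩ := Polynomial.lifts_and_degree_eq_and_monic
      (f := Ideal.Quotient.mk (η : Ideal A)) ((Polynomial.lifts_iff_coeff_lifts P).mpr fun n =>
        Ideal.Quotient.mk_surjective _) hP
    refine ⟨P', hP', ?_⟩
    rw [Polynomial.eval₂_map] at hP0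
    exact hP0
  choose P hPm hP0 using hint
  have hz : IsIntegral A z := by
    refine ⟨∏ η : S, P η, Polynomial.monic_prod_of_monic _ _ fun η _ => hPm η, ?_⟩
    let N := (∏ η : S, P η)
    obtain ⟨a, d, hd⟩ := IsLocalization.exists_mk'_eq (nonZeroDivisors A) (Polynomial.eval₂ (algebraMap A Q) z N)
    suffices ha : a = 0 by rw [← hd, ha, IsLocalization.mk'_zero]
    refine hzero a fun η => ?_
    have hnd : ∀ s : nonZeroDivisors A, IsUnit (ev (pt η) s) := fun s => isUnit_iff_ne_zero.mpr fun h => by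
      obtain ⟨hη⟩ := (Set.Finite.mem_toFinset _).mp η.2 |> fun h => (⟨h⟩ : PLift ((η : Ideal A) ∈ minimalPrimes A))
      exact Ideal.disjoint_nonZeroDivisors_of_mem_minimalPrimes hη |>.le_bot ⟨(ev_eq_zero_iff _ _).mp h, s.2⟩ |>.elim
    let L : Q →+* (Spec (CommRingCat.of A)).residueField (pt η) := IsLocalization.lift hnd
    have hL : L.comp (algebraMap A Q) = ev (pt η) := IsLocalization.lift_comp hnd
    have hLz : L z = f (pt η) := by
      show IsLocalization.lift hnd (IsLocalization.mk' Q c ⟨e, hend⟩) = _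
      rw [IsLocalization.lift_mk'_spec]
      exact hc η
    have h2 := congrArg L hd
    rw [Polynomial.hom_eval₂, hL, hLz, Polynomial.eval₂_finsetProd] at h2
    rw [Finset.prod_eq_zero (Finset.mem_univ η) (hP0 η)] at h2
    change IsLocalization.lift hnd (IsLocalization.mk' Q a d) = 0 at h2
    rw [IsLocalization.lift_mk'_spec, mul_zero] at h2
    exact h2
  obtain ⟨a, ha⟩ := IsIntegrallyClosed.isIntegral_iff.mp hz
  have hae : ∀ η : S, ev (pt η) a = f (pt η) := fun η => by
    have h1 : a * e = c := by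
      apply IsFractionRing.injective A Q
      rw [map_mul, ha, IsLocalization.mk'_spec]
    refine mul_left_cancel₀ (he η) ?_
    rw [← hc η, ← h1, map_mul, mul_comm]
  refine ⟨a, fun x => ?_⟩
  obtain ⟨η, hη, hηx⟩ := Ideal.exists_minimalPrimes_le (I := (⊥ : Ideal A)) (J := x.asIdeal) bot_le
  let η' : S := ⟨η, (Set.Finite.mem_toFinset _).mpr hη⟩
  haveI := hS η'
  by_cases hxη : x = pt η'
  · rw [hxη]; exact hae η'
  let B := A ⧸ η
  haveI : η.IsPrime := hS η'
  let Pb := x.asIdeal.map (Ideal.Quotient.mk η)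
  haveI : Pb.IsPrime := Ideal.map_isPrime_of_surjective Ideal.Quotient.mk_surjective (by rwa [Ideal.mk_ker])
  have hPb : Pb.comap (Ideal.Quotient.mk η) = x.asIdeal := by
    rw [Ideal.comap_map_of_surjective _ Ideal.Quotient.mk_surjective, ← RingHom.ker_eq_comap_bot, Ideal.mk_ker,
      sup_eq_left]
    exact hηx
  let L := FractionRing B
  let C := Localization.subalgebra.ofField L Pb.primeCompl Pb.primeCompl_le_nonZeroDivisors
  haveI : IsLocalization.AtPrime C Pb := Localization.subalgebra.isLocalization_ofField L _ _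
  haveI : IsNoetherianRing C := IsLocalization.isNoetherianRing Pb.primeCompl C inferInstance
  haveI : IsLocalRing C := IsLocalization.AtPrime.isLocalRing C Pb
  have hC : ¬ IsField C := fun hf => by
    refine hxη (PrimeSpectrum.ext (le_antisymm (fun b hb => ?_) hηx))
    have h1 : algebraMap B C (Ideal.Quotient.mk η b) ∈ IsLocalRing.maximalIdeal C :=
      (IsLocalization.AtPrime.to_map_mem_maximal_iff C Pb _).mpr (Ideal.mem_map_of_mem _ hb)
    rw [IsLocalRing.isField_iff_maximalIdeal_eq.mp hf, Ideal.mem_bot] at h1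
    have h2 : algebraMap B L (Ideal.Quotient.mk η b) = 0 := congrArg Subtype.val h1
    rw [map_eq_zero_iff _ (IsFractionRing.injective B L)] at h2
    exact Ideal.Quotient.eq_zero_iff_mem.mp h2
  obtain ⟨O, hO, hCO, hlt⟩ := DvrDom.exists_dvr C (L := L) hC Subtype.val_injective ∅ (by
    refine top_le_iff.mp fun w _ => ?_
    obtain ⟨b, c, -, rfl⟩ := IsFractionRing.div_surjective (A := B) w
    exact div_mem (Subfield.subset_closure (Or.inl ⟨algebraMap B C b, rfl⟩))
      (Subfield.subset_closure (Or.inl ⟨algebraMap B C c, rfl⟩)))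
  let φ : A →+* O := ((algebraMap B L).comp (Ideal.Quotient.mk η)).codRestrict O.toSubring
    fun b => hCO (algebraMap B C (Ideal.Quotient.mk η b))
  obtain ⟨r, hr⟩ := exists_of_varies hf O φ
  have hker : ∀ b, φ b = 0 ↔ b ∈ η := fun b => by
    rw [Subtype.ext_iff]
    show algebraMap B L (Ideal.Quotient.mk η b) = 0 ↔ _
    rw [map_eq_zero_iff _ (IsFractionRing.injective B L), Ideal.Quotient.eq_zero_iff_mem]
  let y₀ : Spec (CommRingCat.of O) := ⟨⊥, Ideal.isPrime_bot⟩
  have hy₀ : Spec.map (CommRingCat.ofHom φ) y₀ = pt η' := PrimeSpectrum.ext (by ext b; exact hker b)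
  have hra : r = φ a := by
    have h3 : ∀ (y : Spec (CommRingCat.of A)), y = pt η' → ev y 1 * f y = ev y a := by
      rintro y rfl; rw [map_one, one_mul, hae]
    have h4 := hr y₀ a 1 (h3 _ hy₀)
    rwa [Ideal.mem_bot, map_one, one_mul, sub_eq_zero] at h4
  let y₁ : Spec (CommRingCat.of O) := ⟨IsLocalRing.maximalIdeal O, inferInstance⟩
  have hy₁ : Spec.map (CommRingCat.ofHom φ) y₁ = x := PrimeSpectrum.ext (by
    ext b
    show φ b ∈ IsLocalRing.maximalIdeal O ↔ b ∈ x.asIdeal
    rw [ValuationSubring.valuation_lt_one_iff O (φ b)]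
    show O.valuation (algebraMap B L (Ideal.Quotient.mk η b)) < 1 ↔ _
    constructor
    · intro h
      by_contra hb
      have hunit : IsUnit (algebraMap B C (Ideal.Quotient.mk η b)) := IsLocalization.map_units C
        (⟨Ideal.Quotient.mk η b, fun hbP => hb (hPb ▸ hbP)⟩ : Pb.primeCompl)
      obtain ⟨v, hv⟩ := hunit.exists_right_inv
      have h1 : O.valuation (algebraMap B L (Ideal.Quotient.mk η b)) * O.valuation (v : C).1 = 1 := by
        rw [← map_mul, show algebraMap B L (Ideal.Quotient.mk η b) * (v : C).1 = 1 from congrArg Subtype.val hv, map_one]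
      exact absurd h1 (ne_of_lt ((mul_le_of_le_one_right zero_le ((O.valuation_le_one_iff _).mpr (hCO v))).trans_lt h))
    · intro hb
      exact hlt _ ((IsLocalization.AtPrime.to_map_mem_maximal_iff C Pb _).mpr (Ideal.mem_map_of_mem _ hb)))
  obtain ⟨c₁, e₁, he₁, hce₁⟩ := ev_frac x (f x)
  have h3 : ∀ (y : Spec (CommRingCat.of A)), y = x → ev y e₁ * f y = ev y c₁ := by rintro y rfl; exact hce₁.symm
  have h5 := hr y₁ c₁ e₁ (h3 _ hy₁)
  rw [hra, ← map_mul, ← map_sub] at h5
  have h6 : e₁ * a - c₁ ∈ x.asIdeal := by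
    have := congrArg PrimeSpectrum.asIdeal hy₁
    rw [← this]; exact h5
  rw [← ev_eq_zero_iff, map_sub, map_mul, sub_eq_zero, hce₁] at h6
  exact mul_left_cancel₀ he₁ h6

/-- The pointwise function `y / x` for `x ^ 3 = y ^ 2` varies along DVRs. -/
theorem varies_div {x y : A} (hxy : x ^ 3 = y ^ 2) :
    PtFun.VariesAlongDVR (X := Spec (CommRingCat.of A)) (fun p => ev p y / ev p x) := by
  intro R _ _ _ g
  obtain ⟨φ, rfl⟩ := Spec.map_surjective g
  obtain ⟨φ, rfl⟩ : ∃ ψ : A →+* R, CommRingCat.ofHom ψ = φ := ⟨φ.hom, rfl⟩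
  obtain ⟨r, hr2, hr3⟩ : ∃ r : R, r ^ 2 = φ x ∧ r ^ 3 = φ y := by
    let K := FractionRing R
    have hinj := IsFractionRing.injective R K
    have h1 : algebraMap R K (φ x) ^ 3 = algebraMap R K (φ y) ^ 2 := by
      rw [← map_pow, ← map_pow, ← map_pow, ← map_pow, hxy]
    by_cases hx0 : φ x = 0
    · refine ⟨0, by simp [hx0], ?_⟩
      rw [hx0, map_zero, zero_pow three_ne_zero, eq_comm, pow_eq_zero_iff two_ne_zero,
        map_eq_zero_iff _ hinj] at h1
      simp [h1]
    · have hxK : algebraMap R K (φ x) ≠ 0 := by rwa [Ne, map_eq_zero_iff _ hinj]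
      have hq2 : (algebraMap R K (φ y) / algebraMap R K (φ x)) ^ 2 = algebraMap R K (φ x) := by
        rw [div_pow, div_eq_iff (pow_ne_zero _ hxK), ← h1]; ring
      obtain ⟨r, hr⟩ := IsIntegrallyClosed.isIntegral_iff.mp
        (IsIntegral.of_pow two_pos (by rw [hq2]; exact isIntegral_algebraMap) :
          IsIntegral R (algebraMap R K (φ y) / algebraMap R K (φ x)))
      refine ⟨r, hinj (by rw [map_pow, hr, hq2]), hinj ?_⟩
      rw [map_pow, hr, div_pow, div_eq_iff (pow_ne_zero _ hxK), h1]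
      ring
  refine ⟨(Scheme.ΓSpecIso (CommRingCat.of R)).inv r, funext fun q => ?_⟩
  show ev q r = (Spec.map (CommRingCat.ofHom φ)).residueFieldMap q (_ / _)
  rw [map_div₀, ev_naturality, ev_naturality, ← hr2, ← hr3, map_pow, map_pow]
  rcases eq_or_ne (ev q r) 0 with h | h
  · simp [h]
  · rw [pow_succ, mul_div_cancel_left₀ _ (pow_ne_zero _ h)]

end Groth.Agent.PtFunLib
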