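import Groth.Agent.PtFunLib.Basic
import Groth.Agent.AWN.Normal
import Groth.Agent.S0549

/-!
# Pointwise functions on seminormal rings
-/

set_option autoImplicit false
set_option backward.isDefEq.respectTransparency false

universe u

open CategoryTheory AlgebraicGeometry W4c1hilbchowinc

namespace Groth.Agent.PtFunLib

theorem pullback_pullback {X Y Z : Scheme.{u}} (g : Y ⟶ X) (h : Z ⟶ Y) (f : PtFun X) :
    (f.pullback g).pullback h = f.pullback (h ≫ g) := by
  funext z
  show h.residueFieldMap z (g.residueFieldMap (h z) (f (g (h z)))) = (h ≫ g).residueFieldMap z (f ((h ≫ g) z))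
  rw [← CommRingCat.comp_apply, ← Scheme.residueFieldMap_comp]
  rfl

theorem varies_pullback {X Y : Scheme.{u}} {f : PtFun X} (hf : f.VariesAlongDVR) (g : Y ⟶ X) :
    (f.pullback g).VariesAlongDVR := fun R _ _ _ h => by
  rw [pullback_pullback]; exact hf R (h ≫ g)

theorem value_eq {A R : Type u} [CommRing A] [CommRing R] (φ : A →+* R) (y : Spec (CommRingCat.of R))
    {x : Spec (CommRingCat.of A)} (hx : Spec.map (CommRingCat.ofHom φ) y = x)
    (f : PtFun (Spec (CommRingCat.of A))) (c e : A) (hce : ev x e * f x = ev x c) :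
    ev y (φ e) * f.pullback (Spec.map (CommRingCat.ofHom φ)) y = ev y (φ c) := by
  subst hx
  show _ * (Spec.map (CommRingCat.ofHom φ)).residueFieldMap y (f _) = _
  rw [← ev_naturality, ← ev_naturality, ← map_mul, hce]

theorem varies_of_complete {A : Type u} [CommRing A] {f : PtFun (Spec (CommRingCat.of A))}
    (hf : f.VariesAlongCompleteDVR) : f.VariesAlongDVR := by
  intro O _ _ _ g
  let m := IsLocalRing.maximalIdeal O
  let C := AdicCompletion m O
  obtain ⟨_, _⟩ := (Groth.Agent.S0549.result O).mp ⟨inferInstance, inferInstance⟩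
  haveI : IsAdicComplete (IsLocalRing.maximalIdeal C) C :=
    AdicCompletion.isAdicComplete_of_fg m.fg_of_isNoetherianRing
  let i : O →+* C := algebraMap O C
  have hinj : Function.Injective i := AdicCompletion.of_injective m O
  set f' : PtFun (Spec (CommRingCat.of O)) := f.pullback g
  obtain ⟨s, hs⟩ := hf C (Spec.map (CommRingCat.ofHom i) ≫ g)
  rw [← pullback_pullback] at hs
  obtain ⟨r, rfl⟩ : ∃ r, (Scheme.ΓSpecIso (CommRingCat.of C)).inv r = s :=
    ⟨(Scheme.ΓSpecIso (CommRingCat.of C)).hom s,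
      congrArg (fun k => k.hom s) (Scheme.ΓSpecIso (CommRingCat.of C)).hom_inv_id⟩
  have hr : ∀ q, ev q r = f'.pullback (Spec.map (CommRingCat.ofHom i)) q := fun q => congrFun hs q
  let η : Spec (CommRingCat.of O) := ⟨⊥, Ideal.isPrime_bot⟩
  let η' : Spec (CommRingCat.of C) := ⟨⊥, Ideal.isPrime_bot⟩
  have hη : Spec.map (CommRingCat.ofHom i) η' = η := PrimeSpectrum.ext (by
    ext a
    show i a = 0 ↔ a = 0
    exact map_eq_zero_iff i hinj)
  let y : Spec (CommRingCat.of O) := ⟨m, inferInstance⟩
  let y' : Spec (CommRingCat.of C) := ⟨IsLocalRing.maximalIdeal C, inferInstance⟩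
  have hy : Spec.map (CommRingCat.ofHom i) y' = y := PrimeSpectrum.ext
    (((IsLocalRing.local_hom_TFAE i).out 0 4).mp (inferInstance : IsLocalHom (algebraMap O C)))
  obtain ⟨c, e, he, hce⟩ := ev_frac η (f' η)
  have he0 : e ≠ 0 := fun h => he (by rw [h, map_zero])
  have hrel : i e * r = i c := by
    have h1 := value_eq i η' hη f' c e hce.symm
    rw [← hr, ← map_mul, ← sub_eq_zero, ← map_sub, ev_eq_zero_iff] at h1
    exact sub_eq_zero.mp h1
  obtain ⟨r₀, hr₀⟩ : ∃ r₀ : O, e * r₀ = c := by
    rcases ValuationRing.dvd_total e c with ⟨t, ht⟩ | ⟨t, ht⟩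
    · exact ⟨t, ht.symm⟩
    · -- `e = c t`: then `t` is a unit
      by_cases hc0 : c = 0
      · exact ⟨0, by rw [hc0, mul_zero]⟩
      have h1 : i t * r = 1 := mul_left_cancel₀ (fun h => hc0 (hinj (h.trans (map_zero i).symm))) (by
        rw [← mul_assoc, ← map_mul, ← ht, hrel, mul_one])
      obtain ⟨v, hv⟩ := isUnit_of_map_unit i t (IsUnit.of_mul_eq_one _ h1)
      exact ⟨↑v⁻¹, by rw [ht, ← hv, mul_assoc, Units.mul_inv, mul_one]⟩
  have hrr : r = i r₀ := by
    refine mul_left_cancel₀ (fun h => he0 (hinj (h.trans (map_zero i).symm))) ?_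
    rw [hrel, ← map_mul, hr₀]
  refine ⟨(Scheme.ΓSpecIso (CommRingCat.of O)).inv r₀, funext fun q => ?_⟩
  show ev q r₀ = f' q
  have hq : q = η ∨ q = y := by
    by_cases h0 : q.asIdeal = ⊥
    · exact .inl (PrimeSpectrum.ext h0)
    · exact .inr (PrimeSpectrum.ext (IsLocalRing.eq_maximalIdeal (q.2.isMaximal h0)))
  obtain ⟨q', rfl⟩ : ∃ q', Spec.map (CommRingCat.ofHom i) q' = q := by
    rcases hq with rfl | rfl
    exacts [⟨η', hη⟩, ⟨y', hy⟩]
  refine ((Spec.map (CommRingCat.ofHom i)).residueFieldMap q').hom.injective ?_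
  rw [ev_naturality, ← hrr, hr]
  rfl

theorem exists_ev_eq_seminormal {A : Type u} [CommRing A] [IsNoetherianRing A]
    (hA : HTop.IsSeminormalRing A) (hfin : Module.Finite A (integralClosure A (FractionRing A)))
    {f : PtFun (Spec (CommRingCat.of A))} (hf : f.VariesAlongDVR) : ∃ a, ∀ x, ev x a = f x := by
  haveI := AWN.isReduced_of_seminormal hA
  let Q := FractionRing A
  let B := integralClosure A Q
  haveI : Algebra.IsIntegral A B := integralClosure.AlgebraIsIntegral
  haveI : IsNoetherianRing B := IsNoetherianRing.of_finite A B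
  haveI : _root_.IsReduced Q := isReduced_localizationPreserves (nonZeroDivisors A) Q inferInstance
  haveI : _root_.IsReduced B := isReduced_of_injective B.val Subtype.val_injective
  haveI : IsFractionRing B Q := by
    refine (isLocalization_iff (nonZeroDivisors B) Q).mpr ⟨fun ⟨b, hb⟩ => ?_, fun z => ?_, fun {x y} h => ⟨1, ?_⟩⟩
    · obtain ⟨c, e, hce⟩ := IsLocalization.exists_mk'_eq (nonZeroDivisors A) (b : Q)
      have hc : c ∈ nonZeroDivisors A := mem_nonZeroDivisors_iff_right.mpr fun a ha => by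
        have h1 : algebraMap A B (a * e) * b = 0 := Subtype.ext (by
          show algebraMap A Q (a * e) * (b : Q) = 0
          rw [map_mul, mul_assoc, ← hce, IsLocalization.mk'_spec', ← map_mul, ha, map_zero])
        have h2 : algebraMap A Q (a * e) = 0 := congrArg Subtype.val (mem_nonZeroDivisors_iff_right.mp hb _ h1)
        exact mem_nonZeroDivisors_iff_right.mp e.2 a ((map_eq_zero_iff _ (IsFractionRing.injective A Q)).mp h2)
      show IsUnit (b : Q)
      rw [← hce]
      exact IsUnit.of_mul_eq_one _ (IsLocalization.mk'_mul_mk'_eq_one' (S := Q) c e hc)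
    · obtain ⟨c, e, rfl⟩ := IsLocalization.exists_mk'_eq (nonZeroDivisors A) z
      refine ⟨⟨algebraMap A B c, ⟨algebraMap A B e, mem_nonZeroDivisors_iff_right.mpr fun b hb => ?_⟩⟩, ?_⟩
      · have := congrArg Subtype.val hb
        exact Subtype.ext ((IsLocalization.map_units Q e).mul_left_eq_zero.mp this)
      · exact IsLocalization.mk'_spec _ _ _
    · simpa using Subtype.ext h
  haveI : IsIntegrallyClosed B := (isIntegrallyClosed_iff Q).mpr fun {x} hx =>
    ⟨⟨x, isIntegral_trans (R := A) x hx⟩, rfl⟩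
  let φ : A →+* B := algebraMap A B
  obtain ⟨b, hb⟩ := exists_ev_eq (varies_pullback hf (Spec.map (CommRingCat.ofHom φ)))
  let C : Subalgebra A B := Algebra.adjoin A {b}
  letI : CommRing C := C.toCommRing
  haveI : Algebra.IsIntegral C B := Algebra.IsIntegral.tower_top A
  haveI : Algebra.IsIntegral A C :=
    ⟨fun c => (isIntegral_algHom_iff C.val Subtype.val_injective).mp (Algebra.IsIntegral.isIntegral _)⟩
  have hinjB : Function.Injective φ := fun x y h => IsFractionRing.injective A Q (congrArg Subtype.val h)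
  have hinjC : Function.Injective (algebraMap A C) := fun x y h => hinjB (congrArg Subtype.val h)
  haveI : FaithfulSMul A C := (faithfulSMul_iff_algebraMap_injective _ _).mpr hinjC
  haveI : FaithfulSMul A B := (faithfulSMul_iff_algebraMap_injective _ _).mpr hinjB
  have key : ∀ (p : Spec (CommRingCat.of A)) (c e : A), ev p e * f p = ev p c → ∀ q : PrimeSpectrum C,
      q.asIdeal.comap (algebraMap A C) = p.asIdeal →
      algebraMap A C e * ⟨b, Algebra.self_mem_adjoin_singleton A b⟩ - algebraMap A C c ∈ q.asIdeal := by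
    intro p c e hce q hq
    obtain ⟨Q', hQ'⟩ := Algebra.IsIntegral.comap_surjective C B q
    have hQp : Spec.map (CommRingCat.ofHom φ) Q' = p := PrimeSpectrum.ext (by
      rw [← hq, ← hQ']
      rfl)
    have h1 := value_eq φ Q' hQp f c e hce
    rw [← hb, ← map_mul, ← sub_eq_zero, ← map_sub, ev_eq_zero_iff] at h1
    rw [← hQ']
    exact h1
  have hval : ∀ (K : Type u) [Field K] (g : C →+* K), ∃ c e : A, g (algebraMap A C e) ≠ 0 ∧
      ∀ g' : C →+* K, g.comp (algebraMap A C) = g'.comp (algebraMap A C) →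
        g' ⟨b, Algebra.self_mem_adjoin_singleton A b⟩ * g (algebraMap A C e) = g (algebraMap A C c) := by
    intro K _ g
    haveI := RingHom.ker_isPrime (g.comp (algebraMap A C))
    let p : Spec (CommRingCat.of A) := ⟨RingHom.ker (g.comp (algebraMap A C)), inferInstance⟩
    obtain ⟨c, e, he, hce⟩ := ev_frac p (f p)
    refine ⟨c, e, fun h => he ((ev_eq_zero_iff p e).mpr h), fun g' hgg => ?_⟩
    haveI := RingHom.ker_isPrime g'
    have h1 := key p c e hce.symm ⟨RingHom.ker g', inferInstance⟩ (by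
      show (RingHom.ker g').comap _ = RingHom.ker _
      rw [RingHom.comap_ker, hgg])
    rw [RingHom.mem_ker, map_sub, map_mul, sub_eq_zero] at h1
    rw [show g (algebraMap A C e) = g' (algebraMap A C e) from RingHom.congr_fun hgg e,
      show g (algebraMap A C c) = g' (algebraMap A C c) from RingHom.congr_fun hgg c, mul_comm, h1]
  have hext : ∀ (K : Type u) [Field K] (g g' : C →+* K), g.comp (algebraMap A C) = g'.comp (algebraMap A C) → g = g' := by
    intro K _ g g' hgg
    obtain ⟨c, e, he, hg⟩ := hval K g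
    have hb' := mul_right_cancel₀ he ((hg g rfl).trans (hg g' hgg).symm)
    refine RingHom.ext fun x => ?_
    obtain ⟨x, hx⟩ := x
    induction hx using Algebra.adjoin_induction with
    | mem y hy => obtain rfl := Set.mem_singleton_iff.mp hy; exact hb'
    | algebraMap a => exact RingHom.congr_fun hgg a
    | add y z hy hz h1 h2 =>
      rw [show (⟨y + z, add_mem hy hz⟩ : C) = ⟨y, hy⟩ + ⟨z, hz⟩ from rfl, map_add, map_add, h1, h2]
    | mul y z hy hz h1 h2 =>
      rw [show (⟨y * z, mul_mem hy hz⟩ : C) = ⟨y, hy⟩ * ⟨z, hz⟩ from rfl, map_mul, map_mul, h1, h2]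
  have hres : AWN.ResTriv (algebraMap A C) := by
    intro K _ g x
    obtain ⟨c, e, he, hg⟩ := hval K g
    let F := Subfield.closure (Set.range (g.comp (algebraMap A C)))
    obtain ⟨x, hx⟩ := x
    induction hx using Algebra.adjoin_induction with
    | mem y hy =>
      obtain rfl := Set.mem_singleton_iff.mp hy
      rw [eq_div_of_mul_eq he (hg g rfl)]
      exact div_mem (Subfield.subset_closure ⟨c, rfl⟩) (Subfield.subset_closure ⟨e, rfl⟩)
    | algebraMap a => exact Subfield.subset_closure ⟨a, rfl⟩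
    | add y z hy hz h1 h2 =>
      rw [show (⟨y + z, add_mem hy hz⟩ : C) = ⟨y, hy⟩ + ⟨z, hz⟩ from rfl, map_add]; exact add_mem h1 h2
    | mul y z hy hz h1 h2 =>
      rw [show (⟨y * z, mul_mem hy hz⟩ : C) = ⟨y, hy⟩ * ⟨z, hz⟩ from rfl, map_mul]; exact mul_mem h1 h2
  have hc : AWN.CondHom True (Spec.map (CommRingCat.ofHom (algebraMap A C))) :=
    (AWN.condHom_spec_iff _).mpr ⟨algebraMap_isIntegral_iff.mpr inferInstance, ⟨hext, fun _ => hres⟩,
      Algebra.IsIntegral.comap_surjective A C⟩
  haveI : _root_.IsReduced C := isReduced_of_injective C.val Subtype.val_injective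
  obtain ⟨a, ha⟩ := ((AWN.n_true_iff A).mpr hA).cl.2 C _ hc inferInstance |>.2 ⟨b, Algebra.self_mem_adjoin_singleton A b⟩
  refine ⟨a, fun x => ?_⟩
  obtain ⟨X', rfl⟩ : ∃ X', Spec.map (CommRingCat.ofHom φ) X' = x :=
    Algebra.IsIntegral.comap_surjective A B x
  refine ((Spec.map (CommRingCat.ofHom φ)).residueFieldMap X').hom.injective ?_
  rw [ev_naturality, show φ a = b from congrArg Subtype.val ha, hb]
  rfl

end Groth.Agent.PtFunLib
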